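import Cfsg.Agent.Local.HalfTrans
import Cfsg.Agent.Local.Sub

/-! A normal transitive subgroup outside of which elements fix at most one point: counting lemmas. -/

set_option autoImplicit false

namespace Cfsg.Agent.Der

open Subgroup MulAction Cfsg.Agent.Local
open scoped Pointwise

variable {G Ω : Type*} [Group G] [MulAction G Ω]

/-- `H` covers `G / D`. -/
def Cov (D H : Subgroup G) : Prop := ∀ g : G, ∃ h ∈ H, h⁻¹ * g ∈ D

variable (Ω) in
structure DS (D : Subgroup G) : Prop where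
  normal : D.Normal
  trans : ∀ a b : Ω, ∃ d ∈ D, d • a = b
  uniq : ∀ (g : G) (x y : Ω), g • x = x → g • y = y → x ≠ y → g ∈ D

/-- orbit of a subgroup -/
def orb (B : Subgroup G) (c : Ω) : Set Ω := {x | ∃ b ∈ B, b • c = x}

theorem mem_orb_self (B : Subgroup G) (c : Ω) : c ∈ orb B c := ⟨1, B.one_mem, one_smul _ _⟩

theorem smul_mem_orb {B : Subgroup G} {c x : Ω} {b : G} (hb : b ∈ B) (hx : x ∈ orb B c) :
    b • x ∈ orb B c := by
  obtain ⟨b', hb', rfl⟩ := hx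
  exact ⟨b * b', B.mul_mem hb hb', mul_smul _ _ _⟩

theorem orb_eq {B : Subgroup G} {c x : Ω} (hx : x ∈ orb B c) : orb B x = orb B c := by
  obtain ⟨b', hb', rfl⟩ := hx
  ext y
  constructor
  · rintro ⟨b, hb, rfl⟩
    exact ⟨b * b', B.mul_mem hb hb', mul_smul _ _ _⟩
  · rintro ⟨b, hb, rfl⟩
    exact ⟨b * b'⁻¹, B.mul_mem hb (B.inv_mem hb'), by rw [mul_smul, inv_smul_smul]⟩

theorem orb_mono {B B' : Subgroup G} (h : B ≤ B') (c : Ω) : orb B c ⊆ orb B' c :=
  fun _ ⟨b, hb, e⟩ => ⟨b, h hb, e⟩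

theorem index_stab (B : Subgroup G) (c : Ω) :
    (stabilizer B c).index = (stabilizer G c).relIndex B := rfl

theorem ncard_orb (B : Subgroup G) (c : Ω) :
    (orb B c).ncard = (stabilizer G c).relIndex B := by
  rw [← index_stab, index_stabilizer]
  congr 1
  ext x
  exact ⟨fun ⟨b, hb, e⟩ => ⟨⟨b, hb⟩, e⟩, fun ⟨b, e⟩ => ⟨b, b.2, e⟩⟩

theorem card_eq_orb (B : Subgroup G) (c : Ω) :
    Nat.card ↥(B ⊓ stabilizer G c) * (orb B c).ncard = Nat.card B := by
  rw [ncard_orb, inf_comm, card_inf_mul_relIndex]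

variable {D H : Subgroup G}

theorem Cov.mono {H' : Subgroup G} (h : Cov D H) (hle : H ≤ H') : Cov D H' := fun g =>
  let ⟨x, hx, e⟩ := h g
  ⟨x, hle hx, e⟩

theorem Cov.of (hD : D.Normal) {H' : Subgroup G} (h : Cov D H)
    (hle : ∀ x ∈ H, ∃ d ∈ D, d⁻¹ * x ∈ H') : Cov D H' := by
  intro g
  obtain ⟨x, hx, e⟩ := h g
  obtain ⟨d, hd, e'⟩ := hle x hx
  refine ⟨_, e', ?_⟩
  have : (d⁻¹ * x)⁻¹ * g = x⁻¹ * d * x⁻¹⁻¹ * (x⁻¹ * g) := by group
  rw [this]
  exact D.mul_mem (hD.conj_mem _ hd _) e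

theorem cov_top : Cov D ⊤ := fun g => ⟨g, trivial, by simp⟩

theorem Cov.relIndex (hD : D.Normal) (h : Cov D H) : D.relIndex H = D.index := by
  rw [← relIndex_sup_right H D, ← relIndex_top_right]
  congr 1
  rw [eq_top_iff]
  intro g _
  obtain ⟨x, hx, e⟩ := h g
  have : g = x * (x⁻¹ * g) := by group
  rw [this]
  exact mul_mem (mem_sup_left hx) (mem_sup_right e)

theorem Cov.le_ncard {α : Type*} (h : Cov D H) (f : G → α) (T : Set α) (hT : T.Finite)
    (hf : ∀ x ∈ H, f x ∈ T) (hinj : ∀ x ∈ H, ∀ x' ∈ H, f x = f x' → x⁻¹ * x' ∈ D) :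
    D.index ≤ T.ncard := by
  have : ∀ q : G ⧸ D, ∃ x ∈ H, (x : G ⧸ D) = q := by
    intro q
    obtain ⟨g, rfl⟩ := QuotientGroup.mk_surjective q
    obtain ⟨x, hx, e⟩ := h g
    exact ⟨x, hx, QuotientGroup.eq.2 e⟩
  choose s hs1 hs2 using this
  have := hT.to_subtype
  rw [← Nat.card_coe_set_eq]
  refine Nat.card_le_card_of_injective (fun q => (⟨f (s q), hf _ (hs1 q)⟩ : T)) ?_
  intro q q' e
  rw [← hs2 q, ← hs2 q']
  exact QuotientGroup.eq.2 (hinj _ (hs1 q) _ (hs1 q') (congrArg Subtype.val e))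

theorem Cov.frattini [Finite G] (hD : D.Normal) (h : Cov D H) {p : ℕ} [Fact p.Prime]
    {P : Subgroup G} (hP : IsSylowIn p P (D ⊓ H)) : Cov D (H ⊓ normalizer (P : Set G)) := by
  refine h.of hD fun x hx => ?_
  have : x ∈ normalizer ((D ⊓ H : Subgroup G) : Set G) :=
    mem_normalizer_of_conj_mem fun n hn =>
      ⟨hD.conj_mem _ hn.1 _, H.mul_mem (H.mul_mem hx hn.2) (H.inv_mem hx)⟩
  obtain ⟨n, hn, e⟩ := hP.frattini this
  exact ⟨n, hn.1, H.mul_mem (H.inv_mem hn.2) hx, e⟩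

theorem Cov.stab (hD : D.Normal) (h : Cov D H) (a : Ω)
    (ht : ∀ b : Ω, ∃ d ∈ D, d ∈ H ∧ d • a = b) : Cov D (H ⊓ stabilizer G a) := by
  refine h.of hD fun x hx => ?_
  obtain ⟨d, hd, hdH, e⟩ := ht (x • a)
  refine ⟨d, hd, H.mul_mem (H.inv_mem hdH) hx, ?_⟩
  change (d⁻¹ * x) • a = a
  rw [mul_smul, ← e, inv_smul_smul]

theorem DS.cov_stab (h : DS Ω D) (a : Ω) : Cov D (stabilizer G a) := by
  have := (cov_top (D := D)).stab h.normal a fun b =>
    let ⟨d, hd, e⟩ := h.trans a b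
    ⟨d, hd, trivial, e⟩
  rwa [top_inf_eq] at this

theorem Cov.ncard_orb (hD : D.Normal) (h : Cov D H) {c : Ω} (hc : H ⊓ stabilizer G c ≤ D) :
    (orb H c).ncard = D.index * (orb (D ⊓ H) c).ncard := by
  rw [Der.ncard_orb, Der.ncard_orb, ← h.relIndex hD, ← inf_relIndex_right D H,
    ← inf_relIndex_right (stabilizer G c) (D ⊓ H), mul_comm,
    relIndex_mul_relIndex _ _ _ inf_le_right inf_le_right, ← inf_relIndex_right (stabilizer G c) H]
  congr 1
  apply le_antisymm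
  · exact fun x hx => ⟨hx.1, hc ⟨hx.2, hx.1⟩, hx.2⟩
  · exact fun x hx => ⟨hx.1, hx.2.2⟩

variable [Finite Ω]

theorem DS.one_mod (h : DS Ω D) (hH : Cov D H) {a : Ω} (ha : H ≤ stabilizer G a) (X : Set Ω)
    (hX : ∀ x ∈ H, ∀ c ∈ X, x • c ∈ X) (haX : a ∈ X) : ∃ t, X.ncard = D.index * t + 1 := by
  have : D.index ∣ (X \ {a}).ncard := by
    refine dvd_ncard_of_dvd_index_stabilizer (B := H) _ _ (Set.toFinite _) ?_ ?_
    · rintro b c ⟨h1, h2⟩
      refine ⟨hX b b.2 c h1, fun e => h2 ?_⟩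
      have e1 : (b : G) • c = a := e
      have e2 : (b : G) • a = a := ha b.2
      exact MulAction.injective (b : G) (e1.trans e2.symm)
    · rintro c ⟨h1, h2⟩
      rw [index_stab, ← ncard_orb, hH.ncard_orb h.normal fun x hx =>
        h.uniq x c a hx.2 (ha hx.1) h2]
      exact dvd_mul_right _ _
  obtain ⟨t, ht⟩ := this
  exact ⟨t, by rw [← ht, Set.ncard_sdiff_singleton_add_one haX]⟩

theorem le_D [Finite G] (hD : D.Normal) (X : Subgroup G) (S : Set Ω)
    (hS : ∀ x ∈ X, ∀ c ∈ S, x • c ∈ S) (hc : ∃ t, S.ncard = D.index * t + 1)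
    (hx : ∀ x ∈ X, ∀ c ∈ S, x • c = c → x ∈ D) : X ≤ D := by
  refine le_of_forall_exists_isSylowIn_le fun q hq _ => ?_
  have := Fact.mk hq
  obtain ⟨Q, hQ⟩ := exists_isSylowIn q X
  refine ⟨Q, hQ, ?_⟩
  by_cases hqi : q ∣ D.index
  · have : ¬ ∀ c ∈ S, q ∣ (stabilizer Q c).index := by
      intro hh
      have := dvd_ncard_of_dvd_index_stabilizer (B := Q) q S (Set.toFinite _)
        (fun b c hc => hS b (hQ.le b.2) c hc) hh
      obtain ⟨t, ht⟩ := hc
      rw [ht] at this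
      exact hq.one_lt.ne' (Nat.dvd_one.1 ((Nat.dvd_add_right (hqi.mul_right t)).1 this))
    push Not at this
    obtain ⟨c, hcS, hcq⟩ := this
    obtain ⟨n, hn⟩ := hQ.isPGroup.index (stabilizer Q c)
    have h1 : (stabilizer Q c).index = 1 := by
      rcases n with _ | n
      · simpa using hn
      · exact absurd (hn ▸ dvd_pow_self q n.succ_ne_zero) hcq
    rw [index_eq_one] at h1
    intro x hxQ
    have : (⟨x, hxQ⟩ : Q) ∈ stabilizer Q c := h1 ▸ trivial
    exact hx x (hQ.le hxQ) c hcS this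
  · obtain ⟨n, hn⟩ := hQ.isPGroup.index (D.subgroupOf Q)
    rw [← relIndex_eq_one]
    rcases n with _ | n
    · simpa using hn
    · exact absurd (((hn ▸ dvd_pow_self q n.succ_ne_zero : q ∣ (D.subgroupOf Q).index)).trans
        (relIndex_dvd_index_of_normal D Q)) hqi

omit [Finite Ω] in
theorem DS.card_stab (h : DS Ω D) (a : Ω) :
    Nat.card ↥(D ⊓ stabilizer G a) * Nat.card Ω = Nat.card D := by
  rw [← card_eq_orb D a,
    show orb D a = Set.univ from Set.eq_univ_of_forall fun b => h.trans a b, Set.ncard_univ]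

theorem DS.card_stab_eq [Finite G] (h : DS Ω D) (a b : Ω) :
    Nat.card ↥(D ⊓ stabilizer G a) = Nat.card ↥(D ⊓ stabilizer G b) := by
  have : Nonempty Ω := ⟨a⟩
  exact Nat.eq_of_mul_eq_mul_right Nat.card_pos ((h.card_stab a).trans (h.card_stab b).symm)

end Cfsg.Agent.Der
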